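import Groth.Agent.KFlatLib.QCohTensor
import Groth.Agent.PerfNoethLib.PCCoh

/-!
# Derived tensor products of bounded above objects with coherent cohomology
-/

set_option autoImplicit false
set_option backward.isDefEq.respectTransparency false
set_option backward.isDefEq.respectTransparency.types false

universe u

open CategoryTheory CategoryTheory.Limits AlgebraicGeometry HomologicalComplex TopologicalSpace
open CategoryTheory.Pretriangulated KFlatLib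
open scoped ZeroObject

attribute [local instance] HasDerivedCategory.standard

namespace Groth.Agent.TensorCohLib

variable {X : Scheme.{u}}

/-- `- ⊗ L` is bounded by the degree bound of `L`. -/
theorem isZero_HD_lTensor (L : CochainComplex X.Modules ℤ) [DCoh.HasLTensorCx L] (c : ℤ)
    (hL : ∀ i, c < i → IsZero (L.X i)) (K : DCoh.D X) (n i : ℤ) [K.IsLE n] (hi : n + c < i) :
    IsZero (DCoh.HD ((DCoh.LTensorCx L).obj K) i) := by
  obtain ⟨P, hPb, hP, ⟨eP⟩⟩ := exists_flat_rep_of_isLE K n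
  obtain ⟨e⟩ := exists_lTensorCxObjIso L P hP
  refine IsZero.of_iso ?_ ((DerivedCategory.homologyFunctor X.Modules i).mapIso
    ((DCoh.LTensorCx L).mapIso eP.symm ≪≫ e) ≪≫ hdToD _ i)
  refine (exactAt_iff_isZero_homology _ _).mp (ShortComplex.exact_of_isZero_X₂ _ ?_)
  refine (IsZero.iff_id_eq_zero _).mpr (mapBifunctor.hom_ext fun p q hpq => ?_)
  change p + q = i at hpq
  by_cases hp : n < p
  · exact (((DCoh.tensorBi (X := X)).flip.obj _).map_isZero (hPb p hp)).eq_of_src _ _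
  · exact (((DCoh.tensorBi (X := X)).obj _).map_isZero (hL q (by omega))).eq_of_src _ _

/-- Tensoring an approximation: `A ⊗ L` and `B ⊗ L` agree above the error. -/
theorem nonempty_homology_iso (L : CochainComplex X.Modules ℤ) (c : ℤ)
    (hL : ∀ i, c < i → IsZero (L.X i)) {A B : CochainComplex X.Modules ℤ}
    (hA : DCoh.IsKFlat A) (hB : DCoh.IsKFlat B) (T : Triangle (DCoh.D X))
    (hT : T ∈ distinguishedTriangles) (e₁ : T.obj₁ ≅ DCoh.toD X A) (e₂ : T.obj₂ ≅ DCoh.toD X B)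
    (m i : ℤ) (h₃ : ∀ j, m ≤ j → IsZero (DCoh.HD T.obj₃ j)) (hi : m + c < i) :
    Nonempty ((tCx A L).homology i ≅ (tCx B L).homology i) := by
  have := hasLTensorCx L
  obtain ⟨T', hT', ⟨i₁⟩, ⟨i₂⟩, ⟨i₃⟩⟩ := (tensorTriFun L).tri T hT
  have : T.obj₃.IsLE (m - 1) := (DerivedCategory.isLE_iff _ _).mpr fun j hj => h₃ j (by omega)
  have hz : ∀ j, i - 1 ≤ j → IsZero (DCoh.HD T'.obj₃ j) := fun j hj =>
    (isZero_HD_lTensor L c hL T.obj₃ (m - 1) j (by omega)).of_iso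
      ((DerivedCategory.homologyFunctor X.Modules j).mapIso i₃)
  have h := (((isoAboveEpiAt_iff T' hT' (i - 1)).mpr hz).1 i (by omega))
  obtain ⟨eA⟩ := exists_lTensorCxObjIso L A hA
  obtain ⟨eB⟩ := exists_lTensorCxObjIso L B hB
  let a : DCoh.toD X (tCx A L) ≅ T'.obj₁ :=
    eA.symm ≪≫ (DCoh.LTensorCx L).mapIso e₁.symm ≪≫ i₁.symm
  let b : T'.obj₂ ≅ DCoh.toD X (tCx B L) := i₂ ≪≫ (DCoh.LTensorCx L).mapIso e₂ ≪≫ eB
  exact ⟨(hdToD _ i).symm ≪≫ (DerivedCategory.homologyFunctor _ i).mapIso a ≪≫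
    @asIso _ _ _ _ ((DerivedCategory.homologyFunctor X.Modules i).map T'.mor₁) h ≪≫
    (DerivedCategory.homologyFunctor _ i).mapIso b ≪≫ hdToD _ i⟩

/-- A strictly perfect approximation of `P` on `U`, with error below `m`. -/
def Approx (U : X.Opens) (P : CochainComplex X.Modules ℤ) (m : ℤ) : Prop :=
  ∃ E : CochainComplex (U : Scheme.{u}).Modules ℤ, DCoh.IsStrictlyPerfect E ∧
    ∃ T : Triangle (DCoh.D (U : Scheme.{u})), T ∈ distinguishedTriangles ∧
      Nonempty (T.obj₁ ≅ DCoh.toD _ E) ∧ Nonempty (T.obj₂ ≅ DCoh.toD _ ((pullCx U.ι).obj P)) ∧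
      ∀ i, m ≤ i → IsZero (DCoh.HD T.obj₃ i)

theorem exists_approx [IsLocallyNoetherian X] (P : CochainComplex X.Modules ℤ) (b : ℤ)
    (hb : ∀ i, b < i → IsZero (P.X i)) (hc : DCoh.IsCohD (DCoh.toD X P)) (m : ℤ) (x : X) :
    ∃ U : X.Opens, x ∈ U ∧ Approx U P m := by
  have : (DCoh.toD X P).IsLE b := (DerivedCategory.isLE_iff _ _).mpr fun i hi =>
    (isZero_HD_iff (Iso.refl (DCoh.toD X P)) i).mpr
      ((exactAt_iff_isZero_homology _ _).mp (ExactAt.of_isZero (hb i hi)))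
  obtain ⟨U, hx, hU⟩ := PerfDualLib.isPC_of_isCohD (DCoh.toD X P) b m hc x
  obtain ⟨E, α, hE, h₁, h₂⟩ := hU P ⟨Iso.refl _⟩
  obtain ⟨C, f, g, hT⟩ := distinguished_cocone_triangle α
  exact ⟨U, hx, E, hE, _, hT, ⟨Iso.refl _⟩,
    ⟨DerivedCategory.Q.mapIso ((restrictCxIso U).app P)⟩,
    (isoAboveEpiAt_iff _ hT m).mp ⟨h₁, h₂⟩⟩

theorem approx_mono {U V : X.Opens} (h : U ≤ V) {P : CochainComplex X.Modules ℤ} {m : ℤ}
    (hV : Approx V P m) : Approx U P m := by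
  obtain ⟨E, hE, T, hT, ⟨e₁⟩, ⟨e₂⟩, h₃⟩ := hV
  let g := X.homOfLE h
  let G := (Scheme.Modules.pullback g).mapDerivedCategory
  let F : ∀ C, G.obj (DerivedCategory.Q.obj C) ≅ DerivedCategory.Q.obj ((pullCx g).obj C) :=
    fun C => (Scheme.Modules.pullback g).mapDerivedCategoryFactors.app C
  refine ⟨(pullCx g).obj E, isStrictlyPerfect_pull g hE, G.mapTriangle.obj T,
    G.map_distinguished _ hT, ⟨G.mapIso e₁ ≪≫ F E⟩,
    ⟨G.mapIso e₂ ≪≫ F _ ≪≫ DerivedCategory.Q.mapIso ((pullLEIso h).app P)⟩, fun i hi => ?_⟩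
  have : T.obj₃.IsLE (m - 1) := (DerivedCategory.isLE_iff _ _).mpr fun j hj => h₃ j (by omega)
  obtain ⟨C, hC, ⟨eC⟩⟩ := DerivedCategory.exists_iso_Q_obj_of_isLE T.obj₃ (m - 1)
  exact (isZero_HD_iff (G.mapIso eC ≪≫ F C).symm i).mpr
    ((exactAt_iff_isZero_homology _ _).mp (ExactAt.of_isZero
      ((Scheme.Modules.pullback g).map_isZero
        (C.isZero_of_isStrictlyLE (m - 1) i (by omega)))))

theorem isCoh_homology_of_local [IsLocallyNoetherian X] (C : CochainComplex X.Modules ℤ) (i : ℤ)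
    (h : ∀ x : X, ∃ W : X.Opens, x ∈ W ∧ Coh.IsCoh (((pullCx W.ι).obj C).homology i)) :
    Coh.IsCoh (C.homology i) := by
  choose W hW hc using h
  exact PerfLib.isCoh_of_cover _ W (eq_top_iff.2 fun p _ => Opens.mem_iSup.2 ⟨p, hW p⟩) fun p =>
    QCohLib.isCoh_of_iso (restrictHomologyIso (W p) C i).symm (hc p)

theorem isCoh_homology_tensor [IsLocallyNoetherian X] {E E' : CochainComplex X.Modules ℤ}
    (hE : DCoh.IsStrictlyPerfect E) (hE' : DCoh.IsStrictlyPerfect E') (i : ℤ) :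
    Coh.IsCoh ((tCx E E').homology i) := by
  refine isCoh_homology_of_local _ i fun x => ?_
  obtain ⟨W, hx, hW⟩ := exists_freeBdd_restrict hE x
  obtain ⟨W', hx', hW'⟩ := exists_freeBdd_restrict hE' x
  have key : ∀ {V : X.Opens} (h : W ⊓ W' ≤ V) {F : CochainComplex X.Modules ℤ},
      FreeBdd ((pullCx V.ι).obj F) → FreeBdd ((pullCx (W ⊓ W').ι).obj F) := by
    intro V h F hF
    obtain ⟨⟨a, b, hv⟩, hf⟩ := freeBdd_pull (X.homOfLE h) hF
    exact ⟨⟨a, b, fun k hk => (hv k hk).of_iso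
        ((HomologicalComplex.eval _ _ k).mapIso ((pullLEIso h).app F)).symm⟩,
      fun k => isFinFree_of_iso
        ((HomologicalComplex.eval _ _ k).mapIso ((pullLEIso h).app F)) (hf k)⟩
  have hf := freeBdd_tensor (key inf_le_left hW) (key inf_le_right hW')
  haveI : IsLocallyNoetherian ((W ⊓ W' : X.Opens) : Scheme.{u}) :=
    isLocallyNoetherian_of_isOpenImmersion (W ⊓ W').ι
  exact ⟨W ⊓ W', ⟨hx, hx'⟩, QCohLib.isCoh_of_iso
    ((homologyFunctor _ _ i).mapIso (pullTensorCxIso (W ⊓ W').ι E E'))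
    (PerfLib.isCoh_homology _
      (fun k => PerfLib.isCoh_of_isFinLocFree ((freeBdd.isStrictlyPerfect hf).2 k)) i)⟩

/-- `P ⊗ Q` has coherent cohomology. -/
theorem isCoh_homology_tCx [IsLocallyNoetherian X] (P Q : CochainComplex X.Modules ℤ) (a b : ℤ)
    (hP : ∀ i, a < i → IsZero (P.X i)) (hQ : ∀ i, b < i → IsZero (Q.X i))
    (hPf : DCoh.IsKFlat P) (hQf : DCoh.IsKFlat Q)
    (hPc : DCoh.IsCohD (DCoh.toD X P)) (hQc : DCoh.IsCohD (DCoh.toD X Q)) (i : ℤ) :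
    Coh.IsCoh ((tCx P Q).homology i) := by
  refine isCoh_homology_of_local _ i fun x => ?_
  obtain ⟨U, hxU, hU⟩ := exists_approx P a hP hPc (i - b - 1) x
  obtain ⟨E₀, ⟨⟨a₀, e, hv⟩, hf₀⟩, _⟩ := id hU
  obtain ⟨E, hE, T, hT, ⟨e₁⟩, ⟨e₂⟩, h₃⟩ := id hU
  obtain ⟨⟨a₁, e', hv'⟩, hf₁⟩ := id hE
  obtain ⟨U', hxU', hU'⟩ := exists_approx Q b hQ hQc (i - e' - 1) x
  obtain ⟨E', hE', T', hT', ⟨e₁'⟩, ⟨e₂'⟩, h₃'⟩ := approx_mono (inf_le_right : U ⊓ U' ≤ U') hU'
  let g := X.homOfLE (inf_le_left : U ⊓ U' ≤ U)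
  haveI : IsLocallyNoetherian ((U ⊓ U' : X.Opens) : Scheme.{u}) :=
    isLocallyNoetherian_of_isOpenImmersion (U ⊓ U').ι
  refine ⟨U ⊓ U', ⟨hxU, hxU'⟩, ?_⟩
  obtain ⟨i₁⟩ := nonempty_homology_iso ((pullCx U.ι).obj Q) b
    (fun k hk => (Scheme.Modules.pullback U.ι).map_isZero (hQ k hk))
    (isKFlat_of_isStrictlyPerfect hE) (isKFlat_pull U.ι hPf) T hT e₁ e₂ (i - b - 1) i h₃ (by omega)
  obtain ⟨i₂⟩ := nonempty_homology_iso ((pullCx g).obj E) e'
    (fun k hk => (Scheme.Modules.pullback g).map_isZero (hv' k (Or.inr hk)))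
    (isKFlat_of_isStrictlyPerfect hE') (isKFlat_pull (U ⊓ U').ι hQf) T' hT' e₁' e₂'
    (i - e' - 1) i h₃' (by omega)
  have hfin := QCohLib.isCoh_of_iso i₂ (isCoh_homology_tensor hE' (isStrictlyPerfect_pull g hE) i)
  let ePU : (pullCx (U ⊓ U').ι).obj (tCx P Q) ≅
      (pullCx g).obj (tCx ((pullCx U.ι).obj P) ((pullCx U.ι).obj Q)) :=
    ((pullLEIso (inf_le_left : U ⊓ U' ≤ U)).app _).symm ≪≫
      (pullCx g).mapIso (pullTensorCxIso U.ι P Q).symm
  let eQ : (pullCx g).obj (tCx E ((pullCx U.ι).obj Q)) ≅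
      tCx ((pullCx (U ⊓ U').ι).obj Q) ((pullCx g).obj E) :=
    (pullTensorCxIso g E _).symm ≪≫
      ((DCoh.tensorCx).obj ((pullCx g).obj E)).mapIso
        ((pullLEIso (inf_le_left : U ⊓ U' ≤ U)).app Q) ≪≫ tCxFlip _ _
  let hom : ∀ C : CochainComplex (U : Scheme.{u}).Modules ℤ,
      ((pullCx g).obj C).homology i ≅ (Scheme.Modules.pullback g).obj (C.homology i) := fun C =>
    (C.sc i).mapHomologyIso (Scheme.Modules.pullback g)
  exact QCohLib.isCoh_of_iso ((homologyFunctor _ _ i).mapIso eQ.symm ≪≫ hom _ ≪≫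
    (Scheme.Modules.pullback g).mapIso i₁ ≪≫ (hom _).symm ≪≫
    (homologyFunctor _ _ i).mapIso ePU.symm) hfin

/-- Bounded above objects with coherent cohomology are stable under the derived tensor product. -/
theorem isCohD_lTensorCx [IsLocallyNoetherian X] (F : CochainComplex X.Modules ℤ)
    [DCoh.HasLTensorCx F] (K : DCoh.D X) (a b : ℤ) [K.IsLE a] [(DCoh.toD X F).IsLE b]
    (hK : DCoh.IsCohD K) (hF : DCoh.IsCohD (DCoh.toD X F)) :
    DCoh.IsCohD ((DCoh.LTensorCx F).obj K) ∧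
      ∀ i, a + b < i → IsZero (DCoh.HD ((DCoh.LTensorCx F).obj K) i) := by
  obtain ⟨P, hPb, hP, ⟨eP⟩⟩ := exists_flat_rep_of_isLE K a
  obtain ⟨Q, hQb, hQ, ⟨eQ⟩⟩ := exists_flat_rep_of_isLE (DCoh.toD X F) b
  obtain ⟨e⟩ := exists_lTensorCxObjIso F P hP
  let q : (resP X).obj F ⟶ F := (resψ X).app F
  have : QuasiIso q := quasiIso_resψ F
  have := quasiIso_tensor_left (K := P) hP q
  have : IsIso (DerivedCategory.Q.map q) := inferInstance
  let eF : DCoh.toD X (tCx P ((resP X).obj F)) ≅ DCoh.toD X (tCx P F) :=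
    @asIso _ _ _ _ (DerivedCategory.Q.map (((DCoh.tensorCx (X := X)).obj P).map q))
      ((DerivedCategory.isIso_Q_map_iff_quasiIso X.Modules _).mpr ‹_›)
  obtain ⟨eR⟩ := tensorQIso_right P (good_resP F).1 hQ
    (@asIso _ _ _ _ (DerivedCategory.Q.map q) inferInstance ≪≫ eQ.symm)
  let tot : (DCoh.LTensorCx F).obj K ≅ DCoh.toD X (tCx P Q) :=
    (DCoh.LTensorCx F).mapIso eP.symm ≪≫ e ≪≫ eF.symm ≪≫ eR
  refine ⟨fun i => QCohLib.isCoh_of_iso
    ((hdToD _ i).symm ≪≫ (DerivedCategory.homologyFunctor _ i).mapIso tot.symm)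
    (isCoh_homology_tCx P Q a b hPb hQb hP hQ ?_ ?_ i), fun i hi => ?_⟩
  · exact fun j => QCohLib.isCoh_of_iso
      ((DerivedCategory.homologyFunctor _ j).mapIso eP.symm) (hK j)
  · exact fun j => QCohLib.isCoh_of_iso
      ((DerivedCategory.homologyFunctor _ j).mapIso eQ.symm) (hF j)
  · have := hasLTensorCx Q
    obtain ⟨e'⟩ := exists_lTensorCxObjIso Q P hP
    exact (isZero_HD_lTensor Q b hQb K a i hi).of_iso ((DerivedCategory.homologyFunctor _ i).mapIso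
      (tot ≪≫ e'.symm ≪≫ (DCoh.LTensorCx Q).mapIso eP))

end Groth.Agent.TensorCohLib
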